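import Cfsg.Agent.Lib.Trans3.Spider.Data.UE.F0

set_option autoImplicit false
set_option maxRecDepth 100000

namespace CfsgLib.Trans3.Spider.UE

open CfsgLib.InvChar.Coset

theorem facts_ok : ∀ j < 47, cert.chkRun 128 (j * 128) (cert.just.get j) = true := by
  intro j hj
  rcases Nat.lt_or_ge j 47 with h0 | h0
  · obtain ⟨i, rfl⟩ : ∃ i, j = 0 + i := ⟨j - 0, by omega⟩
    exact chkBlocks_get (D := cert) 47 0 chk_facts0 i (by omega)
  omega

/-- the goal word -/
def goal : List ℕ := [0, 1, 4, 6, 2, 5, 3, 0, 1, 4, 6, 2, 5, 3, 0, 1, 4, 6, 2, 5, 3, 0, 1, 4, 6, 2, 5, 3, 0, 1, 4, 6, 2, 5, 3, 0, 1, 4, 6, 2, 5, 3, 0, 1, 4, 6, 2, 5, 3, 0, 1, 4, 6, 2, 5, 3, 0, 1, 4, 6, 2, 5, 3, 7, 3, 5, 2, 6, 4, 1, 0, 3, 5, 2, 6, 4, 1, 0, 3, 5, 2, 6, 4, 1, 0, 3, 5, 2, 6, 4, 1, 0, 3, 5, 2, 6, 4, 1, 0, 3, 5, 2, 6, 4, 1, 0, 3, 5, 2, 6, 4, 1, 0, 3, 5, 2, 6, 4, 1, 0, 3, 5, 2, 6, 4, 1, 0, 7]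

theorem goal_ok : cert.chkGoal 5945 128 0x99c0099d009a000001009a3009a6009a4000020000300006009bb009c40000c009da009ea009ff0002d0003f00a6b00a6e00a6c000680008a000b800b5400baf0018d00ca400d3400dc8017380026b00ca90019000bb20013700b52000b500ace00a9a00a7c00a7b0004500a2d00a150001c009e20000d009c800009009b900004009ab009a8009aa009a900002009a2009a5000010099e009a10099f00000009980099a009970099b009990099600995009980099a009970099b009990099600995009980099a009970099b009990099600995009980099a009970099b009990099600995009980099a009970099b009990099600995009980099a009970099b009990099600995009980099a009970099b009990099600995009980099a009970099b009990099600995009980099a009970099b009990099600995 goal = true := by decide +kernel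

theorem nf_le : cert.nf ≤ 47 * 128 := by decide +kernel

end CfsgLib.Trans3.Spider.UE
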